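import Groth.Agent.MultTori.K605.PicKer
import Groth.Agent.CurvesA.Hilbert90Alg

/-!
# Amitsur cocycles with values in the units and invertible submodules

`B → C` faithfully flat. `wtHom : (Submodule B C)ˣ →* C ⊗ C` (helper605).
* `exists_wt`: every unit cocycle `u` is `wtHom I`.
* `wt_map`, `toPic_map`: compatibility with an injective map of `B`-algebras.
* `exists_of_toPic_eq_one`: `I` trivial in `Pic B` gives `wtHom I = v ⊗ v⁻¹`.
-/

set_option autoImplicit false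
set_option backward.isDefEq.respectTransparency false
universe u

open TensorProduct CommRing
open Groth.Agent.MultTori.K605.PicKer Groth.Agent.CurvesA.Hilbert90Alg

namespace K205.H1.Alg

variable {B C : Type u} [CommRing B] [CommRing C] [Algebra B C]

/-- `x ⊗ (y ⊗ z) ↦ x y z` -/
noncomputable def mul3 (B C : Type u) [CommRing B] [CommRing C] [Algebra B C] : C ⊗[B] (C ⊗[B] C) →ₐ[B] C :=
  (Algebra.TensorProduct.lmul' B (S := C)).comp
    (Algebra.TensorProduct.map (AlgHom.id B C) (Algebra.TensorProduct.lmul' B (S := C)))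

lemma mul3_i12 (u : C ⊗[B] C) : mul3 B C (i12 B C u) = Algebra.TensorProduct.lmul' B (S := C) u := by
  have : (mul3 B C).comp (i12 B C) = Algebra.TensorProduct.lmul' B (S := C) := by
    ext <;> simp [mul3, i12]
  exact DFunLike.congr_fun this u

lemma mul3_i13 (u : C ⊗[B] C) : mul3 B C (i13 B C u) = Algebra.TensorProduct.lmul' B (S := C) u := by
  have : (mul3 B C).comp (i13 B C) = Algebra.TensorProduct.lmul' B (S := C) := by
    ext <;> simp [mul3, i13]
  exact DFunLike.congr_fun this u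

lemma mul3_i23 (u : C ⊗[B] C) : mul3 B C (i23 B C u) = Algebra.TensorProduct.lmul' B (S := C) u := by
  have : (mul3 B C).comp (i23 B C) = Algebra.TensorProduct.lmul' B (S := C) := by
    ext <;> simp [mul3, i23]
  exact DFunLike.congr_fun this u

lemma lmul_eq_one (u : C ⊗[B] C) (hu : IsUnit u) (hc : i12 B C u * i23 B C u = i13 B C u) :
    Algebra.TensorProduct.lmul' B (S := C) u = 1 := by
  have h := congrArg (mul3 B C) hc
  rw [map_mul, mul3_i12, mul3_i13, mul3_i23] at h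
  have h2 : IsUnit (Algebra.TensorProduct.lmul' B (S := C) u) := hu.map _
  exact h2.mul_left_cancel (h.trans (mul_one _).symm)

variable [Module.FaithfullyFlat B C]

/-- Every unit cocycle comes from an invertible submodule. -/
theorem exists_wt (u : C ⊗[B] C) (hu : IsUnit u) (hc : i12 B C u * i23 B C u = i13 B C u) :
    ∃ I : (Submodule B C)ˣ, wtHom I = u := by
  obtain ⟨u, rfl⟩ := hu
  have hc' : i12 B C ((u⁻¹ : (C ⊗[B] C)ˣ) : C ⊗[B] C) * i23 B C ((u⁻¹ : (C ⊗[B] C)ˣ) : C ⊗[B] C) =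
      i13 B C ((u⁻¹ : (C ⊗[B] C)ˣ) : C ⊗[B] C) := by
    have h1 : ∀ f : C ⊗[B] C →ₐ[B] C ⊗[B] (C ⊗[B] C),
        f ((u⁻¹ : (C ⊗[B] C)ˣ) : C ⊗[B] C) = (((Units.map (f : C ⊗[B] C →* C ⊗[B] (C ⊗[B] C)) u)⁻¹ : (C ⊗[B] (C ⊗[B] C))ˣ) :
          C ⊗[B] (C ⊗[B] C)) := fun f => by
      rw [← map_inv]
      rfl
    have h2 : Units.map (i23 B C : C ⊗[B] C →* C ⊗[B] (C ⊗[B] C)) u * Units.map (i12 B C : C ⊗[B] C →* C ⊗[B] (C ⊗[B] C)) u =
        Units.map (i13 B C : C ⊗[B] C →* C ⊗[B] (C ⊗[B] C)) u := Units.ext ((mul_comm _ _).trans hc)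
    rw [h1, h1, h1, ← Units.val_mul, ← mul_inv_rev, h2]
  have hs := span_eq_top (A := B) (B := C) (u : C ⊗[B] C) hc (lmul_eq_one _ u.isUnit hc)
  have hs' := span_eq_top (A := B) (B := C) ((u⁻¹ : (C ⊗[B] C)ˣ) : C ⊗[B] C) hc' (lmul_eq_one _ (u⁻¹).isUnit hc')
  let M : Submodule B C := LinearMap.ker (defect (u : C ⊗[B] C))
  let M' : Submodule B C := LinearMap.ker (defect ((u⁻¹ : (C ⊗[B] C)ˣ) : C ⊗[B] C))
  have hM : ∀ m, m ∈ M ↔ (u : C ⊗[B] C) * (m ⊗ₜ 1) = 1 ⊗ₜ m := fun m => mem_ker_defect _ m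
  have hM' : ∀ m, m ∈ M' ↔ ((u⁻¹ : (C ⊗[B] C)ˣ) : C ⊗[B] C) * (m ⊗ₜ 1) = 1 ⊗ₜ m := fun m => mem_ker_defect _ m
  have hle : M * M' ≤ 1 := by
    rw [Submodule.mul_le]
    intro m hm n hn
    apply mem_one_of_tmul_eq
    have e1 : (1 : C) ⊗ₜ[B] (m * n) = ((1 : C) ⊗ₜ[B] m) * (1 ⊗ₜ n) := by
      rw [Algebra.TensorProduct.tmul_mul_tmul, one_mul]
    have e2 : (m * n) ⊗ₜ[B] (1 : C) = (m ⊗ₜ[B] (1 : C)) * (n ⊗ₜ 1) := by
      rw [Algebra.TensorProduct.tmul_mul_tmul, one_mul]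
    rw [e1, e2, ← (hM m).1 hm, ← (hM' n).1 hn]
    calc (u : C ⊗[B] C) * (m ⊗ₜ 1) * (((u⁻¹ : (C ⊗[B] C)ˣ) : C ⊗[B] C) * (n ⊗ₜ 1))
        = ((u : C ⊗[B] C) * ((u⁻¹ : (C ⊗[B] C)ˣ) : C ⊗[B] C)) * ((m ⊗ₜ 1) * (n ⊗ₜ 1)) := by ring
      _ = _ := by rw [Units.mul_inv, one_mul]
  let J : Ideal B := (M * M').comap (Algebra.linearMap B C)
  have hJ : J.map (algebraMap B C) = ⊤ := by
    have ht : Ideal.span {m : C | (u : C ⊗[B] C) * (m ⊗ₜ 1) = 1 ⊗ₜ m} *
        Ideal.span {m : C | ((u⁻¹ : (C ⊗[B] C)ˣ) : C ⊗[B] C) * (m ⊗ₜ 1) = 1 ⊗ₜ m} = ⊤ := by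
      rw [hs, hs', Ideal.mul_top]
    rw [eq_top_iff, ← ht, Ideal.span_mul_span', Ideal.span_le]
    rintro _ ⟨m, hm, n, hn, rfl⟩
    have h1 : m * n ∈ M * M' := Submodule.mul_mem_mul ((hM m).2 hm) ((hM' n).2 hn)
    obtain ⟨r, hr⟩ := Submodule.mem_one.1 (hle h1)
    have h2 : r ∈ J := by
      change Algebra.linearMap B C r ∈ M * M'
      rw [Algebra.linearMap_apply, hr]
      exact h1
    have h3 := Ideal.mem_map_of_mem (algebraMap B C) h2
    rw [hr] at h3
    exact h3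
  have hJ1 : J = ⊤ := by
    have := Ideal.comap_map_eq_self_of_faithfullyFlat (A := B) (B := C) J
    rw [← this, hJ, Ideal.comap_top]
  have hge : (1 : Submodule B C) ≤ M * M' := by
    rw [Submodule.one_le]
    have : (1 : B) ∈ J := by rw [hJ1]; trivial
    have h4 : Algebra.linearMap B C 1 ∈ M * M' := this
    rwa [Algebra.linearMap_apply, map_one] at h4
  have heq : M * M' = 1 := le_antisymm hle hge
  let I : (Submodule B C)ˣ := ⟨M', M, by rw [mul_comm]; exact heq, heq⟩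
  refine ⟨I, ?_⟩
  have key : ∀ b ∈ M, wtHom I * (b ⊗ₜ 1) = (u : C ⊗[B] C) * (b ⊗ₜ 1) := by
    intro b hb
    have h1 := tmul_mul_eq I (b := b) hb (wt_mem I)
    rw [mul_wt, mul_one] at h1
    rw [(hM b).1 hb, ← h1, mul_comm]
    rfl
  have h1 : (1 : C) ∈ M * M' := Submodule.one_le.1 hge
  have h2 : ∀ z ∈ M * M', wtHom I * (z ⊗ₜ 1) = (u : C ⊗[B] C) * (z ⊗ₜ[B] (1 : C)) := by
    intro z hz
    refine Submodule.mul_induction_on hz ?_ ?_
    · intro m hm n _
      have e2 : (m * n) ⊗ₜ[B] (1 : C) = (m ⊗ₜ[B] (1 : C)) * (n ⊗ₜ 1) := by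
        rw [Algebra.TensorProduct.tmul_mul_tmul, one_mul]
      rw [e2, ← mul_assoc, key m hm, mul_assoc]
    · intro x y hx hy
      rw [TensorProduct.add_tmul, mul_add, mul_add, hx, hy]
  have h3 := h2 1 h1
  rwa [← Algebra.TensorProduct.one_def, mul_one, mul_one] at h3

omit [Module.FaithfullyFlat B C] in
/-- Compatibility of `wtHom` with maps of algebras. -/
theorem wt_map [FaithfulSMul B C] {C' : Type u} [CommRing C'] [Algebra B C'] [FaithfulSMul B C'] (φ : C →ₐ[B] C')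
    (I : (Submodule B C)ˣ) :
    wtHom (Units.map (Submodule.mapHom φ : Submodule B C →* Submodule B C') I) =
      Algebra.TensorProduct.map φ φ (wtHom I) := by
  set I' := Units.map (Submodule.mapHom φ : Submodule B C →* Submodule B C') I with hI'
  refine eq_of_mul_eq I' (wt_mem I') ?_ ?_
  · refine tens_induction (P := fun w => Algebra.TensorProduct.map φ φ w ∈ tens (I' : Submodule B C')
      ((I'⁻¹ : (Submodule B C')ˣ) : Submodule B C')) ?_ ?_ ?_ (wt_mem I)
    · rw [map_zero]; exact zero_mem _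
    · intro a b ha hb; rw [map_add]; exact add_mem ha hb
    · intro x hx y hy
      rw [Algebra.TensorProduct.map_tmul]
      refine tmul_mem ?_ ?_
      · exact Submodule.mem_map_of_mem hx
      · rw [hI', ← map_inv]
        exact Submodule.mem_map_of_mem hy
  · have h1 : μ (R := B) (Algebra.TensorProduct.map φ φ (wtHom I)) = φ (μ (R := B) (wtHom I)) := by
      have : (μ (R := B) (A := C')).comp (Algebra.TensorProduct.map φ φ) = φ.comp (μ (R := B) (A := C)) := by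
        ext <;> simp [μ]
      exact DFunLike.congr_fun this _
    rw [h1]
    change μ (R := B) (wt I') = φ (μ (R := B) (wt I))
    rw [mul_wt, mul_wt, map_one]

omit [Module.FaithfullyFlat B C] in
theorem toPic_map [FaithfulSMul B C] {C' : Type u} [CommRing C'] [Algebra B C'] [FaithfulSMul B C'] (φ : C →ₐ[B] C')
    (hφ : Function.Injective φ) (I : (Submodule B C)ˣ) :
    Submodule.unitsToPic B C' (Units.map (Submodule.mapHom φ : Submodule B C →* Submodule B C') I) =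
      Submodule.unitsToPic B C I := by
  rw [Submodule.unitsToPic_apply, Submodule.unitsToPic_apply, CommRing.Pic.mk_eq_mk_iff]
  exact ⟨(Submodule.equivMapOfInjective φ.toLinearMap hφ (I : Submodule B C)).symm⟩

omit [Module.FaithfullyFlat B C] in
theorem wt_span [FaithfulSMul B C] (v : Cˣ) :
    wtHom (Units.map (Submodule.spanSingleton B).toMonoidHom v) = (v : C) ⊗ₜ[B] ((v⁻¹ : Cˣ) : C) := by
  set I := Units.map (Submodule.spanSingleton B).toMonoidHom v with hI
  refine eq_of_mul_eq I (wt_mem I) ?_ ?_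
  · refine tmul_mem ?_ ?_
    · exact Submodule.mem_span_singleton_self _
    · rw [hI, ← map_inv]
      exact Submodule.mem_span_singleton_self _
  · change μ (R := B) (wt I) = _
    rw [mul_wt]
    simp [μ]

omit [Module.FaithfullyFlat B C] in
theorem exists_of_toPic_eq_one [FaithfulSMul B C] (I : (Submodule B C)ˣ) (h : Submodule.unitsToPic B C I = 1) :
    ∃ v : Cˣ, wtHom I = (v : C) ⊗ₜ[B] ((v⁻¹ : Cˣ) : C) := by
  have h1 : I ∈ (Submodule.unitsToPic B C).ker := h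
  rw [Submodule.ker_unitsToPic] at h1
  obtain ⟨v, rfl⟩ := h1
  exact ⟨v, wt_span v⟩

end K205.H1.Alg
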